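import Mathlib.GroupTheory.Sylow
import Mathlib.GroupTheory.Nilpotent
import Mathlib.GroupTheory.Subgroup.Simple
import Mathlib.GroupTheory.QuotientGroup.Basic

/-!
Sylow subgroups meeting a normal non-abelian simple subgroup: intersections, Frattini, properness
of normalizers.
-/

namespace CfsgLib.UniqueMaximal

open Subgroup

variable {G : Type*} [Group G] [Finite G] {r : ℕ} [Fact r.Prime]

theorem exists_sylow_map_eq_inf (T : Subgroup G) [T.Normal] (R : Sylow r G) :
    ∃ P : Sylow r T, (P : Subgroup T).map T.subtype = (R : Subgroup G) ⊓ T := by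
  obtain ⟨P⟩ : Nonempty (Sylow r T) := inferInstance
  obtain ⟨R', hR'⟩ := (P.2.map T.subtype).exists_le_sylow
  obtain ⟨g, hg⟩ := MulAction.exists_smul_eq G R' R
  refine ⟨(MulAut.conjNormal g : MulAut T) • P, le_antisymm ?_ ?_⟩
  · rintro _ ⟨x, hx, rfl⟩
    refine ⟨?_, x.2⟩
    obtain ⟨y, hy, rfl⟩ := hx
    rw [← hg, Sylow.coe_subgroup_smul]
    exact ⟨(y : G), hR' ⟨y, hy, rfl⟩, rfl⟩
  · have hp : IsPGroup r ((R : Subgroup G).subgroupOf T) := by
      exact R.2.comap_of_injective T.subtype Subtype.val_injective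
    have hle : (((MulAut.conjNormal g : MulAut T) • P : Sylow r T) : Subgroup T) ≤
        (R : Subgroup G).subgroupOf T := by
      rintro _ ⟨y, hy, rfl⟩
      rw [mem_subgroupOf, ← hg, Sylow.coe_subgroup_smul]
      exact ⟨(y : G), hR' ⟨y, hy, rfl⟩, rfl⟩
    rw [← Subgroup.subgroupOf_map_subtype,
      ((MulAut.conjNormal g : MulAut T) • P).3 hp hle]

/-- A non-abelian simple group is not an `r`-group. -/
theorem not_isPGroup_of_isSimpleGroup {S : Type*} [Group S] [Finite S] [IsSimpleGroup S]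
    (hna : ¬ IsMulCommutative S) : ¬ IsPGroup r S := by
  intro h
  have hc : Subgroup.center S = ⊤ :=
    ((inferInstance : (Subgroup.center S).Normal).eq_bot_or_eq_top).resolve_left
      (fun hb => by
        have := h.center_nontrivial
        exact (Subgroup.nontrivial_iff_ne_bot _).mp this hb)
  exact hna ⟨⟨fun a b => ((Subgroup.mem_center_iff.mp (hc ▸ mem_top b : b ∈ center S)) a)⟩⟩

theorem inf_not_normal (T : Subgroup G) [T.Normal] (hT : IsSimpleGroup T)
    (hna : ¬ IsMulCommutative T) (R : Sylow r G) (hR0 : (R : Subgroup G) ⊓ T ≠ ⊥) :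
    ¬ ((R : Subgroup G) ⊓ T).Normal := by
  intro hn
  have hN : (((R : Subgroup G) ⊓ T).subgroupOf T).Normal := Subgroup.normal_subgroupOf
  rcases hN.eq_bot_or_eq_top with h | h
  · rw [subgroupOf_eq_bot, disjoint_iff, inf_assoc, inf_idem] at h
    exact hR0 h
  · rw [subgroupOf_eq_top] at h
    exact not_isPGroup_of_isSimpleGroup hna (R.2.to_le (h.trans inf_le_left))

theorem sylow_le_normalizer_inf (T : Subgroup G) [T.Normal] (R : Sylow r G) :
    (R : Subgroup G) ≤ normalizer (((R : Subgroup G) ⊓ T : Subgroup G) : Set G) :=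
  le_trans (le_inf le_normalizer (le_top.trans_eq (T.normalizer_eq_top).symm))
    (inf_normalizer_le_normalizer_inf)

theorem normalizer_inf_sup_eq_top (T : Subgroup G) [T.Normal] (R : Sylow r G) :
    normalizer (((R : Subgroup G) ⊓ T : Subgroup G) : Set G) ⊔ T = ⊤ := by
  obtain ⟨P, hP⟩ := exists_sylow_map_eq_inf T R
  rw [← hP]
  exact Sylow.normalizer_sup_eq_top P

theorem normalizer_ne_top (T : Subgroup G) [T.Normal] (hT : IsSimpleGroup T)
    (hna : ¬ IsMulCommutative T) (R : Sylow r G) (hR0 : (R : Subgroup G) ⊓ T ≠ ⊥) :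
    normalizer ((R : Subgroup G) : Set G) ≠ ⊤ := by
  intro h
  have : (R : Subgroup G).Normal := normalizer_eq_top_iff.mp h
  exact inf_not_normal T hT hna R hR0 (Subgroup.normal_inf_normal _ _)

end CfsgLib.UniqueMaximal
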